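import Cfsg.Agent.H603.AP.Pol

/-!
# Forms on a line (helper189, for S4791 + S4927)

* `Pol_line` : a form of degree `k` on the line `l * m ^ s` is a polynomial in `s` of degree at most `k` with first coefficient
  `f l` and last coefficient `f m`.
* `linInd_two` : two forms `f`, `g` of degrees `e`, `2 e`; `f l ≠ 0` and `g l * f m ^ 2 ≠ g m * f l ^ 2` for two points `l`, `m`:
  the forms `f ^ (k - 2 b) * g ^ b`, `2 b ≤ k`, are linearly independent if `e * (k + 1) < p`.
-/

set_option autoImplicit false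

open Cfsg

namespace Cfsg.Agent.H189.NE

open Cfsg.Agent.H603.AP Polynomial

universe u

variable {p : ℕ} {A : Type u} [Group A]

theorem ev_mul_pow (l m : LL p A) (s : ℕ) (x : A) : ev (l * m ^ s) x = ev l x + s * ev m x := by
  have h : ev (l * m ^ s) x = ev l x + ev (m ^ s) x := rfl
  rw [h, ev_pow']

/-- a form on a line -/
theorem Pol_line {k : ℕ} {f : LL p A → ZMod p} (hf : f ∈ Pol p A k) (l m : LL p A) :
    ∃ F : (ZMod p)[X], F.natDegree ≤ k ∧ F.coeff 0 = f l ∧ F.coeff k = f m ∧ ∀ s : ℕ, F.eval (s : ZMod p) = f (l * m ^ s) := by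
  induction hf using Submodule.span_induction with
  | mem f hf =>
    obtain ⟨xs, rfl, rfl⟩ := hf
    induction xs with
    | nil => exact ⟨1, by simp, by simp [mono], by simp [mono], fun s => by simp [mono]⟩
    | cons y xs ih =>
      obtain ⟨F, h1, h2, h3, h4⟩ := ih
      have hd : (C (ev l y) + C (ev m y) * X : (ZMod p)[X]).natDegree ≤ 1 := by
        rw [add_comm]
        exact natDegree_linear_le
      refine ⟨(C (ev l y) + C (ev m y) * X) * F, ?_, ?_, ?_, fun s => ?_⟩
      · refine natDegree_mul_le.trans ?_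
        rw [List.length_cons]
        omega
      · rw [mul_coeff_zero, h2]
        simp [mono]
      · rw [List.length_cons, add_comm xs.length 1, coeff_mul_add_eq_of_natDegree_le hd h1, h3]
        simp [mono]
      · rw [eval_mul, h4]
        have h5 := ev_mul_pow l m s y
        simp only [eval_add, eval_C, eval_mul, eval_X, mono, List.map_cons, List.prod_cons, h5]
        ring
  | zero => exact ⟨0, by simp, by simp, by simp, fun s => by simp⟩
  | add a b _ _ ha hb =>
    obtain ⟨F, h1, h2, h3, h4⟩ := ha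
    obtain ⟨F', h1', h2', h3', h4'⟩ := hb
    refine ⟨F + F', natDegree_add_le_of_degree_le h1 h1', ?_, ?_, fun s => ?_⟩
    · rw [coeff_add, h2, h2']; rfl
    · rw [coeff_add, h3, h3']; rfl
    · rw [eval_add, h4, h4']; rfl
  | smul c a _ ha =>
    obtain ⟨F, h1, h2, h3, h4⟩ := ha
    refine ⟨C c * F, (natDegree_C_mul_le c F).trans h1, ?_, ?_, fun s => ?_⟩
    · rw [coeff_C_mul, h2]; rfl
    · rw [coeff_C_mul, h3]; rfl
    · rw [eval_mul, eval_C, h4]; rfl

variable [hp : Fact p.Prime]

/-- **Two points are enough.** -/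
theorem linInd_two {e k : ℕ} {f g : LL p A → ZMod p} (hf : f ∈ Pol p A e) (hg : g ∈ Pol p A (2 * e)) {l m : LL p A}
    (h0 : f l ≠ 0) (h1 : g l * f m ^ 2 ≠ g m * f l ^ 2) (hk : e * (k + 1) < p) :
    LinearIndependent (ZMod p) fun b : Fin (k / 2 + 1) => f ^ (k - 2 * (b : ℕ)) * g ^ (b : ℕ) := by
  classical
  rw [Fintype.linearIndependent_iff]
  intro c hc
  obtain ⟨F, hF1, hF2, hF3, hF4⟩ := Pol_line hf l m
  obtain ⟨H, hH1, hH2, hH3, hH4⟩ := Pol_line hg l m
  set Q : (ZMod p)[X] := ∑ b : Fin (k / 2 + 1), C (c b) * X ^ (b : ℕ) with hQ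
  by_contra hcon
  push Not at hcon
  obtain ⟨b0, hb0⟩ := hcon
  have hcoef : ∀ b : Fin (k / 2 + 1), Q.coeff b = c b := by
    intro b
    rw [hQ, finsetSum_coeff, Finset.sum_eq_single b]
    · rw [coeff_C_mul, coeff_X_pow, if_pos rfl, mul_one]
    · intro b' _ hb'
      rw [coeff_C_mul, coeff_X_pow, if_neg (fun h => hb' (Fin.ext h.symm)), mul_zero]
    · intro h
      exact absurd (Finset.mem_univ _) h
  have hQ0 : Q ≠ 0 := by
    intro h
    apply hb0
    rw [← hcoef, h, coeff_zero]
  have hQd : Q.natDegree ≤ k / 2 := by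
    rw [hQ]
    refine natDegree_sum_le_of_forall_le _ _ fun b _ => ?_
    refine (natDegree_C_mul_X_pow_le _ _).trans ?_
    have := b.2
    omega
  have hF0 : F ≠ 0 := by
    intro h
    rw [h, coeff_zero] at hF2
    exact h0 hF2.symm
  have hT : ∀ t : ZMod p, H - C t * F ^ 2 ≠ 0 := by
    intro t h
    have e1 := congrArg (fun P : (ZMod p)[X] => P.coeff 0) h
    have e2 := congrArg (fun P : (ZMod p)[X] => P.coeff (2 * e)) h
    simp only [coeff_sub, coeff_C_mul, coeff_zero] at e1 e2
    rw [hH2, pow_two, mul_coeff_zero, hF2] at e1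
    rw [hH3, pow_two, two_mul e, coeff_mul_add_eq_of_natDegree_le hF1 hF1, hF3] at e2
    apply h1
    rw [sub_eq_zero] at e1 e2
    rw [e1, e2]
    ring
  have hTd : ∀ t : ZMod p, (H - C t * F ^ 2).natDegree ≤ 2 * e := by
    intro t
    refine (natDegree_sub_le _ _).trans (max_le hH1 ((natDegree_C_mul_le _ _).trans ?_))
    exact (natDegree_pow_le).trans (Nat.mul_le_mul_left 2 hF1)
  have hcov : (Finset.univ : Finset (ZMod p)) ⊆ F.roots.toFinset ∪ Q.roots.toFinset.biUnion fun t =>
      (H - C t * F ^ 2).roots.toFinset := by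
    intro s _
    rw [Finset.mem_union, Finset.mem_biUnion]
    by_cases hs : F.eval s = 0
    · left
      rw [Multiset.mem_toFinset, mem_roots hF0]
      exact hs
    · right
      have hs' : ((s.val : ℕ) : ZMod p) = s := by rw [ZMod.natCast_zmod_val]
      have hfs : f (l * m ^ s.val) = F.eval s := by rw [← hF4, hs']
      have hgs : g (l * m ^ s.val) = H.eval s := by rw [← hH4, hs']
      have h2 := congrFun hc (l * m ^ s.val)
      simp only [Finset.sum_apply, Pi.smul_apply, Pi.mul_apply, Pi.pow_apply, smul_eq_mul, Pi.zero_apply, hfs, hgs] at h2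
      refine ⟨H.eval s / F.eval s ^ 2, ?_, ?_⟩
      · rw [Multiset.mem_toFinset, mem_roots hQ0, IsRoot.def]
        have h3 : F.eval s ^ k * Q.eval (H.eval s / F.eval s ^ 2) = 0 := by
          rw [← h2, hQ, eval_finsetSum, Finset.mul_sum]
          refine Finset.sum_congr rfl fun b _ => ?_
          rw [eval_mul, eval_C, eval_pow, eval_X, div_pow, ← pow_mul]
          have h4 : F.eval s ^ k = F.eval s ^ (k - 2 * (b : ℕ)) * F.eval s ^ (2 * (b : ℕ)) := by
            rw [← pow_add]
            congr 1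
            have := b.2
            omega
          rw [h4]
          have h5 : F.eval s ^ (2 * (b : ℕ)) ≠ 0 := pow_ne_zero _ hs
          field_simp
        exact (mul_eq_zero.1 h3).resolve_left (pow_ne_zero _ hs)
      · rw [Multiset.mem_toFinset, mem_roots (hT _), IsRoot.def, eval_sub, eval_mul, eval_C, eval_pow,
          div_mul_cancel₀ _ (pow_ne_zero _ hs), sub_self]
  have h2 := Finset.card_le_card hcov
  rw [Finset.card_univ, ZMod.card] at h2
  have h3 : (F.roots.toFinset).card ≤ e := (Multiset.toFinset_card_le _).trans ((card_roots' F).trans hF1)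
  have h4 : (Q.roots.toFinset.biUnion fun t => (H - C t * F ^ 2).roots.toFinset).card ≤ (k / 2) * (2 * e) := by
    refine Finset.card_biUnion_le_card_mul _ _ (2 * e) (fun t _ => ?_) |>.trans ?_
    · exact (Multiset.toFinset_card_le _).trans ((card_roots' _).trans (hTd t))
    · refine Nat.mul_le_mul_right _ ?_
      exact (Multiset.toFinset_card_le _).trans ((card_roots' Q).trans hQd)
  have h5 := Finset.card_union_le F.roots.toFinset (Q.roots.toFinset.biUnion fun t => (H - C t * F ^ 2).roots.toFinset)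
  have h6 : k / 2 * (2 * e) ≤ e * k := by
    have h7 : k / 2 * 2 ≤ k := Nat.div_mul_le_self k 2
    calc k / 2 * (2 * e) = e * (k / 2 * 2) := by ring
      _ ≤ e * k := Nat.mul_le_mul_left _ h7
  have h7 : e * (k + 1) = e * k + e := by ring
  omega

end Cfsg.Agent.H189.NE
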