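import Cfsg.Agent.H92.NE.Fam
import Cfsg.Agent.H26.XZ.Gal
import Cfsg.Agent.H189.NE.Line
import Cfsg.Agent.ChevalleyStructure.WeylData

/-!
# `E₇(q)`: the forms for `d = 3, 6` (S4791 + S4927, helper189)

`d` the order of `q` modulo `p`. The power sums `f`, `g` of degrees `6`, `12` of the projections of the roots take the values
`1944`, `3254256` and `-864`, `59616` (`d = 3`), `64` and `4096` times these values (`d = 6`) at two simple roots; `linInd_two` and the theorem on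
the Galois orbits `gal_nr` (helper26) give `nr_E7_three`, `nr_E7_six`:
`(p - 1) / 6 * ((p - 7) / 6 / 2 + 1) ≤ nr p M S`.
-/

set_option autoImplicit false
set_option linter.unusedSectionVars false
set_option maxRecDepth 100000

open Cfsg

namespace Cfsg.Agent.H189.NE

open CoxeterSystem Cfsg.Lie Cfsg.Lie.ChevalleyDatum
open Cfsg.Agent.ChevalleyStructure.CoxeterGeom Cfsg.Agent.ChevalleyStructure.CoxeterGeomTypes
  Cfsg.Agent.Nodes.RGDChev Cfsg.Agent.H129.TorusChar Cfsg.Agent.H129.WData Cfsg.Agent.H210.EL Cfsg.Agent.Nodes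
  Cfsg.Agent.Tits.Roots Cfsg.Agent.Nodes.Reps
open Cfsg.Agent.H603.AP Cfsg.Agent.H92.NE Cfsg.Agent.ChevalleyStructure Cfsg.Agent.ChevalleyStructure.RootVec

universe u v

/-! ### pairs of integers -/

/-- the product of `u.1 + u.2 s` and `v.1 + v.2 s`, `s ^ 2 = - e s - 1` -/
def mulp (e : ℤ) (u v : ℤ × ℤ) : ℤ × ℤ := (u.1 * v.1 - u.2 * v.2, u.1 * v.2 + u.2 * v.1 - e * (u.2 * v.2))

/-- powers -/
def powp (e : ℤ) (u : ℤ × ℤ) : ℕ → ℤ × ℤ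
  | 0 => (1, 0)
  | n + 1 => mulp e (powp e u n) u

/-- integral multiples -/
def smp (n : ℤ) (u : ℤ × ℤ) : ℤ × ℤ := (n * u.1, n * u.2)

/-- sums -/
def sump (f : ℕ → ℤ × ℤ) : ℕ → ℤ × ℤ
  | 0 => (0, 0)
  | n + 1 => ((sump f n).1 + (f n).1, (sump f n).2 + (f n).2)

/-- the value -/
def evp {p : ℕ} (s : ZMod p) (u : ℤ × ℤ) : ZMod p := (u.1 : ZMod p) + (u.2 : ZMod p) * s

section evp

variable {p : ℕ} {s : ZMod p}

theorem evp_mul {e : ℤ} (hs : s ^ 2 = -(e : ZMod p) * s - 1) (u v : ℤ × ℤ) : evp s (mulp e u v) = evp s u * evp s v := by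
  unfold evp mulp
  push_cast
  linear_combination (-(u.2 : ZMod p) * v.2) * hs

theorem evp_pow {e : ℤ} (hs : s ^ 2 = -(e : ZMod p) * s - 1) (u : ℤ × ℤ) (n : ℕ) : evp s (powp e u n) = evp s u ^ n := by
  induction n with
  | zero => simp [evp, powp]
  | succ n ih => rw [pow_succ, ← ih, ← evp_mul hs]; rfl

theorem evp_sm (n : ℤ) (u : ℤ × ℤ) : evp s (smp n u) = n * evp s u := by
  unfold evp smp
  push_cast
  ring

theorem evp_sum (f : ℕ → ℤ × ℤ) (n : ℕ) : evp s (sump f n) = ∑ i ∈ Finset.range n, evp s (f i) := by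
  induction n with
  | zero => simp [evp, sump]
  | succ n ih =>
    rw [Finset.sum_range_succ, ← ih]
    unfold evp
    rw [sump]
    push_cast
    ring

theorem evp_gen (s : ZMod p) : evp s (0, 1) = s := by simp [evp]

end evp

/-! ### powers of a matrix -/

/-- the checks for the powers -/
def PowOK (Th : Mat 7) (T : List (Mat 7)) (d : ℕ) : Prop :=
  (∀ j m, T.getD 0 (fun _ _ => 0) j m = if j = m then 1 else 0) ∧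
    (∀ i : Fin d, ∀ j m, T.getD (i + 1) (fun _ _ => 0) j m = ∑ k, T.getD i (fun _ _ => 0) j k * Th k m) ∧
    ∀ j m, T.getD d (fun _ _ => 0) j m = if j = m then 1 else 0

instance decPowOK (Th : Mat 7) (T : List (Mat 7)) (d : ℕ) : Decidable (PowOK Th T d) := by
  unfold PowOK; infer_instance

theorem iter_add (θ : (Fin 7 → ℤ) →+ (Fin 7 → ℤ)) (i : ℕ) (x y : Fin 7 → ℤ) :
    (⇑θ)^[i] (x + y) = (⇑θ)^[i] x + (⇑θ)^[i] y := by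
  induction i generalizing x y with
  | zero => rfl
  | succ i ih => rw [Function.iterate_succ_apply, map_add, ih]; rfl

/-- the iterates as additive maps -/
def iterHom (θ : (Fin 7 → ℤ) →+ (Fin 7 → ℤ)) (i : ℕ) : (Fin 7 → ℤ) →+ (Fin 7 → ℤ) := AddMonoidHom.mk' (⇑θ)^[i] (iter_add θ i)

theorem iter_sr {θ : (Fin 7 → ℤ) →+ (Fin 7 → ℤ)} {Th : Mat 7} (h : Lin θ Th) {T : List (Mat 7)} {d : ℕ} (hT : PowOK Th T d)
    {i : ℕ} (hi : i ≤ d) (j : Fin 7) : (⇑θ)^[i] (sr j) = T.getD i (fun _ _ => 0) j := by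
  induction i with
  | zero =>
    funext m
    rw [hT.1]
    show (sr j : Fin 7 → ℤ) m = _
    by_cases hm : j = m
    · subst hm; rw [if_pos rfl, sr_self]
    · rw [if_neg hm, sr_ne (Ne.symm hm)]
  | succ i ih =>
    rw [Function.iterate_succ_apply', ih (by omega)]
    funext m
    rw [h.apply]
    exact (hT.2.1 ⟨i, hi⟩ j m).symm

theorem iter_id {θ : (Fin 7 → ℤ) →+ (Fin 7 → ℤ)} {Th : Mat 7} (h : Lin θ Th) {T : List (Mat 7)} {d : ℕ} (hT : PowOK Th T d)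
    (x : Fin 7 → ℤ) : (⇑θ)^[d] x = x := by
  refine ext_sr (iterHom θ d) (AddMonoidHom.id _) (fun j => ?_) x
  show (⇑θ)^[d] (sr j) = sr j
  rw [iter_sr h hT le_rfl j]
  funext m
  rw [hT.2.2]
  by_cases hm : j = m
  · subst hm; rw [if_pos rfl, sr_self]
  · rw [if_neg hm, sr_ne (Ne.symm hm)]

/-- the pair of `pj` -/
def prj (e : ℤ) (d : ℕ) (Bm : Mat 7) (y : Fin 7 → ℤ) (V : ℕ → Fin 7 → ℤ) : ℤ × ℤ :=
  sump (fun i => smp (bl Bm y (V i)) (powp e (0, 1) i)) d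

theorem pj_eq {p d : ℕ} {s : ZMod p} {e : ℤ} (hs : s ^ 2 = -(e : ZMod p) * s - 1) {θ : (Fin 7 → ℤ) → (Fin 7 → ℤ)}
    {Bm : Mat 7} {y x : Fin 7 → ℤ} {V : ℕ → Fin 7 → ℤ} (hV : ∀ i < d, θ^[i] x = V i) :
    pj p d s θ (bl Bm y) x = evp s (prj e d Bm y V) := by
  unfold pj prj
  rw [evp_sum]
  refine Finset.sum_congr rfl fun i hi => ?_
  rw [evp_sm, evp_pow hs, evp_gen, hV i (Finset.mem_range.1 hi), mul_comm]

/-- `w` for `d = 3` -/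
def cw3 : List (Fin 7 × Mat 7) := [
    (0, ![![0, 1, 1, 1, 1, 1, 0], ![0, 0, 1, 1, 1, 0, 0], ![0, 0, 0, 1, 0, 0, 0], ![0, 0, -1, -1, 0, 0, 0], ![0, -1, 0, -1, -1, 0, 0], ![-1, 0, -1, -1, -1, -1, 0], ![2, 2, 3, 4, 3, 2, 1]]),
    (1, ![![1, 1, 1, 1, 1, 1, 0], ![1, 0, 1, 1, 1, 0, 0], ![0, 0, 0, 1, 0, 0, 0], ![-1, 0, -1, -1, 0, 0, 0], ![0, -1, 0, -1, -1, 0, 0], ![0, 0, -1, -1, -1, -1, 0], ![1, 2, 3, 4, 3, 2, 1]]),
    (2, ![![1, 0, 1, 1, 1, 1, 0], ![1, 1, 1, 1, 1, 0, 0], ![0, 1, 0, 1, 0, 0, 0], ![-1, -1, -1, -1, 0, 0, 0], ![0, 0, 0, -1, -1, 0, 0], ![0, -1, -1, -1, -1, -1, 0], ![1, 2, 3, 4, 3, 2, 1]]),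
    (3, ![![1, 0, 1, 1, 1, 1, 0], ![1, 1, 1, 1, 1, 0, 0], ![0, 1, 1, 1, 0, 0, 0], ![-1, -1, -1, -1, 0, 0, 0], ![0, 0, -1, -1, -1, 0, 0], ![0, -1, 0, -1, -1, -1, 0], ![1, 2, 2, 4, 3, 2, 1]]),
    (4, ![![1, 0, 1, 1, 1, 1, 0], ![1, 1, 1, 2, 1, 0, 0], ![0, 1, 1, 1, 0, 0, 0], ![-1, -1, -1, -1, 0, 0, 0], ![0, 0, -1, -1, -1, 0, 0], ![0, -1, 0, -1, -1, -1, 0], ![1, 2, 2, 3, 3, 2, 1]]),
    (5, ![![1, 0, 1, 1, 1, 1, 0], ![1, 1, 1, 2, 1, 0, 0], ![0, 1, 1, 1, 1, 0, 0], ![-1, -1, -1, -1, -1, 0, 0], ![0, 0, -1, -1, 0, 0, 0], ![0, -1, 0, -1, -1, -1, 0], ![1, 2, 2, 3, 2, 2, 1]]),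
    (0, ![![1, 0, 1, 1, 1, 0, 0], ![1, 1, 1, 2, 1, 1, 0], ![0, 1, 1, 1, 1, 1, 0], ![-1, -1, -1, -1, -1, -1, 0], ![0, 0, -1, -1, 0, 0, 0], ![0, -1, 0, -1, -1, 0, 0], ![1, 2, 2, 3, 2, 1, 1]]),
    (1, ![![0, 0, 1, 1, 1, 0, 0], ![0, 1, 1, 2, 1, 1, 0], ![1, 1, 1, 1, 1, 1, 0], ![0, -1, -1, -1, -1, -1, 0], ![-1, 0, -1, -1, 0, 0, 0], ![0, -1, 0, -1, -1, 0, 0], ![1, 2, 2, 3, 2, 1, 1]]),
    (2, ![![0, 1, 1, 1, 1, 0, 0], ![0, 1, 1, 2, 1, 1, 0], ![1, 0, 1, 1, 1, 1, 0], ![0, 0, -1, -1, -1, -1, 0], ![-1, -1, -1, -1, 0, 0, 0], ![0, 0, 0, -1, -1, 0, 0], ![1, 1, 2, 3, 2, 1, 1]]),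
    (3, ![![0, 1, 0, 1, 1, 0, 0], ![0, 1, 1, 2, 1, 1, 0], ![1, 0, 1, 1, 1, 1, 0], ![0, 0, 0, -1, -1, -1, 0], ![-1, -1, -1, -1, 0, 0, 0], ![0, 0, -1, -1, -1, 0, 0], ![1, 1, 2, 3, 2, 1, 1]]),
    (4, ![![0, 1, 0, 1, 1, 0, 0], ![0, 1, 1, 1, 1, 1, 0], ![1, 0, 1, 1, 1, 1, 0], ![0, 0, 0, 0, -1, -1, 0], ![-1, -1, -1, -1, 0, 0, 0], ![0, 0, -1, -1, -1, 0, 0], ![1, 1, 2, 2, 2, 1, 1]]),
    (5, ![![0, 1, 0, 1, 0, 0, 0], ![0, 1, 1, 1, 1, 1, 0], ![1, 0, 1, 1, 1, 1, 0], ![0, 0, 0, 0, 0, -1, 0], ![-1, -1, -1, -1, -1, 0, 0], ![0, 0, -1, -1, 0, 0, 0], ![1, 1, 2, 2, 1, 1, 1]]),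
    (0, ![![0, 1, 0, 1, 0, 0, 0], ![0, 1, 1, 1, 1, 0, 0], ![1, 0, 1, 1, 1, 0, 0], ![0, 0, 0, 0, 0, 1, 0], ![-1, -1, -1, -1, -1, -1, 0], ![0, 0, -1, -1, 0, 0, 0], ![1, 1, 2, 2, 1, 1, 1]]),
    (1, ![![0, 1, 0, 1, 0, 0, 0], ![1, 1, 1, 1, 1, 0, 0], ![0, 0, 1, 1, 1, 0, 0], ![0, 0, 0, 0, 0, 1, 0], ![0, -1, -1, -1, -1, -1, 0], ![-1, 0, -1, -1, 0, 0, 0], ![1, 1, 2, 2, 1, 1, 1]]),
    (2, ![![0, 0, 0, 1, 0, 0, 0], ![1, 0, 1, 1, 1, 0, 0], ![0, 1, 1, 1, 1, 0, 0], ![0, 0, 0, 0, 0, 1, 0], ![0, 0, -1, -1, -1, -1, 0], ![-1, -1, -1, -1, 0, 0, 0], ![1, 1, 2, 2, 1, 1, 1]]),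
    (3, ![![0, 0, 1, 1, 0, 0, 0], ![1, 0, 1, 1, 1, 0, 0], ![0, 1, 0, 1, 1, 0, 0], ![0, 0, 0, 0, 0, 1, 0], ![0, 0, 0, -1, -1, -1, 0], ![-1, -1, -1, -1, 0, 0, 0], ![1, 1, 1, 2, 1, 1, 1]]),
    (4, ![![0, 0, 1, 0, 0, 0, 0], ![1, 0, 1, 1, 1, 0, 0], ![0, 1, 0, 1, 1, 0, 0], ![0, 0, 0, 0, 0, 1, 0], ![0, 0, 0, 0, -1, -1, 0], ![-1, -1, -1, -1, 0, 0, 0], ![1, 1, 1, 1, 1, 1, 1]]),
    (5, ![![0, 0, 1, 0, 0, 0, 0], ![1, 0, 1, 1, 0, 0, 0], ![0, 1, 0, 1, 0, 0, 0], ![0, 0, 0, 0, 1, 1, 0], ![0, 0, 0, 0, 0, -1, 0], ![-1, -1, -1, -1, -1, 0, 0], ![1, 1, 1, 1, 1, 1, 1]]),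
    (0, ![![0, 0, 1, 0, 0, 0, 0], ![1, 0, 1, 1, 0, 0, 0], ![0, 1, 0, 1, 0, 0, 0], ![0, 0, 0, 0, 1, 0, 0], ![0, 0, 0, 0, 0, 1, 0], ![-1, -1, -1, -1, -1, -1, 0], ![1, 1, 1, 1, 1, 1, 1]]),
    (1, ![![1, 0, 1, 0, 0, 0, 0], ![0, 0, 1, 1, 0, 0, 0], ![0, 1, 0, 1, 0, 0, 0], ![0, 0, 0, 0, 1, 0, 0], ![0, 0, 0, 0, 0, 1, 0], ![0, -1, -1, -1, -1, -1, 0], ![0, 1, 1, 1, 1, 1, 1]]),
    (2, ![![1, 0, 1, 0, 0, 0, 0], ![0, 1, 1, 1, 0, 0, 0], ![0, 0, 0, 1, 0, 0, 0], ![0, 0, 0, 0, 1, 0, 0], ![0, 0, 0, 0, 0, 1, 0], ![0, 0, -1, -1, -1, -1, 0], ![0, 0, 1, 1, 1, 1, 1]]),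
    (3, ![![1, 0, 0, 0, 0, 0, 0], ![0, 1, 0, 1, 0, 0, 0], ![0, 0, 1, 1, 0, 0, 0], ![0, 0, 0, 0, 1, 0, 0], ![0, 0, 0, 0, 0, 1, 0], ![0, 0, 0, -1, -1, -1, 0], ![0, 0, 0, 1, 1, 1, 1]]),
    (4, ![![1, 0, 0, 0, 0, 0, 0], ![0, 1, 0, 0, 0, 0, 0], ![0, 0, 1, 0, 0, 0, 0], ![0, 0, 0, 1, 1, 0, 0], ![0, 0, 0, 0, 0, 1, 0], ![0, 0, 0, 0, -1, -1, 0], ![0, 0, 0, 0, 1, 1, 1]]),
    (5, ![![1, 0, 0, 0, 0, 0, 0], ![0, 1, 0, 0, 0, 0, 0], ![0, 0, 1, 0, 0, 0, 0], ![0, 0, 0, 1, 0, 0, 0], ![0, 0, 0, 0, 1, 1, 0], ![0, 0, 0, 0, 0, -1, 0], ![0, 0, 0, 0, 0, 1, 1]])]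

/-- `w` for `d = 6` -/
def cw6 : List (Fin 7 × Mat 7) := [
    (0, ![![1, 0, 1, 1, 1, 0, 0], ![1, 1, 1, 2, 1, 1, 0], ![0, 1, 1, 1, 1, 1, 0], ![0, 0, 0, 0, 0, 0, 1], ![-1, -1, -1, -1, -1, -1, -1], ![0, 0, -1, -1, 0, 0, 0], ![0, -1, 0, -1, -1, 0, 0]]),
    (1, ![![0, 0, 1, 1, 1, 0, 0], ![0, 1, 1, 2, 1, 1, 0], ![1, 1, 1, 1, 1, 1, 0], ![0, 0, 0, 0, 0, 0, 1], ![0, -1, -1, -1, -1, -1, -1], ![-1, 0, -1, -1, 0, 0, 0], ![0, -1, 0, -1, -1, 0, 0]]),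
    (2, ![![0, 1, 1, 1, 1, 0, 0], ![0, 1, 1, 2, 1, 1, 0], ![1, 0, 1, 1, 1, 1, 0], ![0, 0, 0, 0, 0, 0, 1], ![0, 0, -1, -1, -1, -1, -1], ![-1, -1, -1, -1, 0, 0, 0], ![0, 0, 0, -1, -1, 0, 0]]),
    (3, ![![0, 1, 0, 1, 1, 0, 0], ![0, 1, 1, 2, 1, 1, 0], ![1, 0, 1, 1, 1, 1, 0], ![0, 0, 0, 0, 0, 0, 1], ![0, 0, 0, -1, -1, -1, -1], ![-1, -1, -1, -1, 0, 0, 0], ![0, 0, -1, -1, -1, 0, 0]]),
    (4, ![![0, 1, 0, 1, 1, 0, 0], ![0, 1, 1, 1, 1, 1, 0], ![1, 0, 1, 1, 1, 1, 0], ![0, 0, 0, 0, 0, 0, 1], ![0, 0, 0, 0, -1, -1, -1], ![-1, -1, -1, -1, 0, 0, 0], ![0, 0, -1, -1, -1, 0, 0]]),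
    (5, ![![0, 1, 0, 1, 0, 0, 0], ![0, 1, 1, 1, 1, 1, 0], ![1, 0, 1, 1, 1, 1, 0], ![0, 0, 0, 0, 0, 0, 1], ![0, 0, 0, 0, 0, -1, -1], ![-1, -1, -1, -1, -1, 0, 0], ![0, 0, -1, -1, 0, 0, 0]]),
    (6, ![![0, 1, 0, 1, 0, 0, 0], ![0, 1, 1, 1, 1, 0, 0], ![1, 0, 1, 1, 1, 0, 0], ![0, 0, 0, 0, 0, 1, 1], ![0, 0, 0, 0, 0, 0, -1], ![-1, -1, -1, -1, -1, -1, 0], ![0, 0, -1, -1, 0, 0, 0]]),
    (0, ![![0, 1, 0, 1, 0, 0, 0], ![0, 1, 1, 1, 1, 0, 0], ![1, 0, 1, 1, 1, 0, 0], ![0, 0, 0, 0, 0, 1, 0], ![0, 0, 0, 0, 0, 0, 1], ![-1, -1, -1, -1, -1, -1, -1], ![0, 0, -1, -1, 0, 0, 0]]),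
    (1, ![![0, 1, 0, 1, 0, 0, 0], ![1, 1, 1, 1, 1, 0, 0], ![0, 0, 1, 1, 1, 0, 0], ![0, 0, 0, 0, 0, 1, 0], ![0, 0, 0, 0, 0, 0, 1], ![0, -1, -1, -1, -1, -1, -1], ![-1, 0, -1, -1, 0, 0, 0]]),
    (2, ![![0, 0, 0, 1, 0, 0, 0], ![1, 0, 1, 1, 1, 0, 0], ![0, 1, 1, 1, 1, 0, 0], ![0, 0, 0, 0, 0, 1, 0], ![0, 0, 0, 0, 0, 0, 1], ![0, 0, -1, -1, -1, -1, -1], ![-1, -1, -1, -1, 0, 0, 0]]),
    (3, ![![0, 0, 1, 1, 0, 0, 0], ![1, 0, 1, 1, 1, 0, 0], ![0, 1, 0, 1, 1, 0, 0], ![0, 0, 0, 0, 0, 1, 0], ![0, 0, 0, 0, 0, 0, 1], ![0, 0, 0, -1, -1, -1, -1], ![-1, -1, -1, -1, 0, 0, 0]]),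
    (4, ![![0, 0, 1, 0, 0, 0, 0], ![1, 0, 1, 1, 1, 0, 0], ![0, 1, 0, 1, 1, 0, 0], ![0, 0, 0, 0, 0, 1, 0], ![0, 0, 0, 0, 0, 0, 1], ![0, 0, 0, 0, -1, -1, -1], ![-1, -1, -1, -1, 0, 0, 0]]),
    (5, ![![0, 0, 1, 0, 0, 0, 0], ![1, 0, 1, 1, 0, 0, 0], ![0, 1, 0, 1, 0, 0, 0], ![0, 0, 0, 0, 1, 1, 0], ![0, 0, 0, 0, 0, 0, 1], ![0, 0, 0, 0, 0, -1, -1], ![-1, -1, -1, -1, -1, 0, 0]]),
    (6, ![![0, 0, 1, 0, 0, 0, 0], ![1, 0, 1, 1, 0, 0, 0], ![0, 1, 0, 1, 0, 0, 0], ![0, 0, 0, 0, 1, 0, 0], ![0, 0, 0, 0, 0, 1, 1], ![0, 0, 0, 0, 0, 0, -1], ![-1, -1, -1, -1, -1, -1, 0]]),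
    (0, ![![0, 0, 1, 0, 0, 0, 0], ![1, 0, 1, 1, 0, 0, 0], ![0, 1, 0, 1, 0, 0, 0], ![0, 0, 0, 0, 1, 0, 0], ![0, 0, 0, 0, 0, 1, 0], ![0, 0, 0, 0, 0, 0, 1], ![-1, -1, -1, -1, -1, -1, -1]]),
    (1, ![![1, 0, 1, 0, 0, 0, 0], ![0, 0, 1, 1, 0, 0, 0], ![0, 1, 0, 1, 0, 0, 0], ![0, 0, 0, 0, 1, 0, 0], ![0, 0, 0, 0, 0, 1, 0], ![0, 0, 0, 0, 0, 0, 1], ![0, -1, -1, -1, -1, -1, -1]]),
    (2, ![![1, 0, 1, 0, 0, 0, 0], ![0, 1, 1, 1, 0, 0, 0], ![0, 0, 0, 1, 0, 0, 0], ![0, 0, 0, 0, 1, 0, 0], ![0, 0, 0, 0, 0, 1, 0], ![0, 0, 0, 0, 0, 0, 1], ![0, 0, -1, -1, -1, -1, -1]]),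
    (3, ![![1, 0, 0, 0, 0, 0, 0], ![0, 1, 0, 1, 0, 0, 0], ![0, 0, 1, 1, 0, 0, 0], ![0, 0, 0, 0, 1, 0, 0], ![0, 0, 0, 0, 0, 1, 0], ![0, 0, 0, 0, 0, 0, 1], ![0, 0, 0, -1, -1, -1, -1]]),
    (4, ![![1, 0, 0, 0, 0, 0, 0], ![0, 1, 0, 0, 0, 0, 0], ![0, 0, 1, 0, 0, 0, 0], ![0, 0, 0, 1, 1, 0, 0], ![0, 0, 0, 0, 0, 1, 0], ![0, 0, 0, 0, 0, 0, 1], ![0, 0, 0, 0, -1, -1, -1]]),
    (5, ![![1, 0, 0, 0, 0, 0, 0], ![0, 1, 0, 0, 0, 0, 0], ![0, 0, 1, 0, 0, 0, 0], ![0, 0, 0, 1, 0, 0, 0], ![0, 0, 0, 0, 1, 1, 0], ![0, 0, 0, 0, 0, 0, 1], ![0, 0, 0, 0, 0, -1, -1]]),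
    (6, ![![1, 0, 0, 0, 0, 0, 0], ![0, 1, 0, 0, 0, 0, 0], ![0, 0, 1, 0, 0, 0, 0], ![0, 0, 0, 1, 0, 0, 0], ![0, 0, 0, 0, 1, 0, 0], ![0, 0, 0, 0, 0, 1, 1], ![0, 0, 0, 0, 0, 0, -1]])]

/-- the powers -/
def T3 : List (Mat 7) := [
    ![![1, 0, 0, 0, 0, 0, 0], ![0, 1, 0, 0, 0, 0, 0], ![0, 0, 1, 0, 0, 0, 0], ![0, 0, 0, 1, 0, 0, 0], ![0, 0, 0, 0, 1, 0, 0], ![0, 0, 0, 0, 0, 1, 0], ![0, 0, 0, 0, 0, 0, 1]],
    ![![0, 1, 1, 1, 1, 1, 0], ![0, 0, 1, 1, 1, 0, 0], ![0, 0, 0, 1, 0, 0, 0], ![0, 0, -1, -1, 0, 0, 0], ![0, -1, 0, -1, -1, 0, 0], ![-1, 0, -1, -1, -1, -1, 0], ![2, 2, 3, 4, 3, 2, 1]],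
    ![![-1, -1, -1, -1, -1, -1, 0], ![0, -1, -1, -1, -1, 0, 0], ![0, 0, -1, -1, 0, 0, 0], ![0, 0, 1, 0, 0, 0, 0], ![0, 1, 0, 1, 0, 0, 0], ![1, 0, 1, 1, 1, 0, 0], ![0, 1, 1, 2, 2, 2, 1]],
    ![![1, 0, 0, 0, 0, 0, 0], ![0, 1, 0, 0, 0, 0, 0], ![0, 0, 1, 0, 0, 0, 0], ![0, 0, 0, 1, 0, 0, 0], ![0, 0, 0, 0, 1, 0, 0], ![0, 0, 0, 0, 0, 1, 0], ![0, 0, 0, 0, 0, 0, 1]]]

/-- the powers -/
def T6 : List (Mat 7) := [
    ![![1, 0, 0, 0, 0, 0, 0], ![0, 1, 0, 0, 0, 0, 0], ![0, 0, 1, 0, 0, 0, 0], ![0, 0, 0, 1, 0, 0, 0], ![0, 0, 0, 0, 1, 0, 0], ![0, 0, 0, 0, 0, 1, 0], ![0, 0, 0, 0, 0, 0, 1]],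
    ![![1, 0, 1, 1, 1, 0, 0], ![1, 1, 1, 2, 1, 1, 0], ![0, 1, 1, 1, 1, 1, 0], ![0, 0, 0, 0, 0, 0, 1], ![-1, -1, -1, -1, -1, -1, -1], ![0, 0, -1, -1, 0, 0, 0], ![0, -1, 0, -1, -1, 0, 0]],
    ![![0, 0, 1, 1, 1, 0, 0], ![1, 1, 1, 2, 2, 1, 1], ![0, 1, 0, 1, 1, 1, 0], ![0, -1, 0, -1, -1, 0, 0], ![-1, 0, -1, -1, -1, -1, 0], ![0, -1, -1, -1, -1, -1, -1], ![0, 0, 0, -1, 0, 0, 0]],
    ![![-1, 0, 0, 0, 0, 0, 0], ![0, -1, 0, 0, 0, 0, 0], ![0, 0, -1, 0, 0, 0, 0], ![0, 0, 0, -1, 0, 0, 0], ![0, 0, 0, 0, -1, 0, 0], ![0, 0, 0, 0, 0, -1, 0], ![0, 0, 0, 0, 0, 0, -1]],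
    ![![-1, 0, -1, -1, -1, 0, 0], ![-1, -1, -1, -2, -1, -1, 0], ![0, -1, -1, -1, -1, -1, 0], ![0, 0, 0, 0, 0, 0, -1], ![1, 1, 1, 1, 1, 1, 1], ![0, 0, 1, 1, 0, 0, 0], ![0, 1, 0, 1, 1, 0, 0]],
    ![![0, 0, -1, -1, -1, 0, 0], ![-1, -1, -1, -2, -2, -1, -1], ![0, -1, 0, -1, -1, -1, 0], ![0, 1, 0, 1, 1, 0, 0], ![1, 0, 1, 1, 1, 1, 0], ![0, 1, 1, 1, 1, 1, 1], ![0, 0, 0, 1, 0, 0, 0]],
    ![![1, 0, 0, 0, 0, 0, 0], ![0, 1, 0, 0, 0, 0, 0], ![0, 0, 1, 0, 0, 0, 0], ![0, 0, 0, 1, 0, 0, 0], ![0, 0, 0, 0, 1, 0, 0], ![0, 0, 0, 0, 0, 1, 0], ![0, 0, 0, 0, 0, 0, 1]]]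

/-! ### the group `E₇(q)` -/

/-- the Cartan matrix -/
def Am : Mat 7 := ![![2, 0, -1, 0, 0, 0, 0], ![0, 2, 0, -1, 0, 0, 0], ![-1, 0, 2, -1, 0, 0, 0], ![0, -1, -1, 2, -1, 0, 0],
  ![0, 0, 0, -1, 2, -1, 0], ![0, 0, 0, 0, -1, 2, -1], ![0, 0, 0, 0, 0, -1, 2]]

theorem hA : ∀ i j, Am i j = cartanOf chevE7 7 i j := by decide +kernel
theorem formOK : FormOK chevE7 7 Am := by decide +kernel
theorem cw3_ok : ChainOK Am cw3 := by decide +kernel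
theorem cw6_ok : ChainOK Am cw6 := by decide +kernel
theorem T3_ok : PowOK (hd cw3) T3 3 := by decide +kernel
theorem T6_ok : PowOK (hd cw6) T6 6 := by decide +kernel

/-- the power sum of the projections of the roots at a simple root -/
def psum (e : ℤ) (d : ℕ) (T : List (Mat 7)) (a : Fin 7) (m : ℕ) : ℤ × ℤ :=
  sump (fun r => powp e (prj e d Am (vec chevE7 7 r) fun i => T.getD i (fun _ _ => 0) a) m) 126

theorem p3_0_6 : psum 1 3 T3 0 6 = (1944, 0) := by decide +kernel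
theorem p3_0_12 : psum 1 3 T3 0 12 = (3254256, 0) := by decide +kernel
theorem p3_6_6 : psum 1 3 T3 6 6 = (-864, 0) := by decide +kernel
theorem p3_6_12 : psum 1 3 T3 6 12 = (59616, 0) := by decide +kernel
theorem p6_0_6 : psum (-1) 6 T6 0 6 = (124416, 0) := by decide +kernel
theorem p6_0_12 : psum (-1) 6 T6 0 12 = (13329432576, 0) := by decide +kernel
theorem p6_1_6 : psum (-1) 6 T6 1 6 = (-55296, 0) := by decide +kernel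
theorem p6_1_12 : psum (-1) 6 T6 1 12 = (244187136, 0) := by decide +kernel


/-! ### the forms -/

section forms

open Cfsg.Agent.H674.XZ

variable {S : Type u} [Group S] [Finite S] {p : ℕ} [hpp : Fact p.Prime] {M : Ideal AlgInt}

/-- the number of members of `X₀` which are not rational from the values of the forms at two points -/
theorem nr_of_forms (hM : IsPModular p M) {P : Sylow p S} (hab : ∀ x ∈ P, ∀ y ∈ P, x * y = y * x) (hd : p ∣ Nat.card S)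
    (h11 : 11 ≤ p) (h6 : 6 ∣ p - 1) {f g : LL p P → ZMod p} (hf : f ∈ Pol p P 6) (hg : g ∈ Pol p P 12) (hfW : WInv P f)
    (hgW : WInv P g) {l m : LL p P} (h0 : f l ≠ 0) (h1 : g l * f m ^ 2 ≠ g m * f l ^ 2) :
    (p - 1) / 6 * ((p - 7) / 6 / 2 + 1) ≤ H508.XR.nr p M S := by
  obtain ⟨k', hk'⟩ := h6
  obtain ⟨k, rfl⟩ : ∃ k, k' = k + 1 := ⟨k' - 1, by omega⟩
  have hp : p = 6 * k + 7 := by omega
  have hk1 : 1 ≤ k := by omega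
  have e1 : (p - 7) / 6 = k := by omega
  have e2 : (p - 1) / 6 = k + 1 := by omega
  have h2 := linInd_two (e := 6) (k := k) hf hg h0 h1 (by omega)
  have h3 := H26.XZ.gal_nr hM hd hab (D := 6 * k) (by omega) (by omega) h2 (fun b => ?_) fun b => ?_
  · rw [Nat.card_eq_fintype_card, Fintype.card_fin] at h3
    have e3 : Nat.gcd (6 * k) (p - 1) = 6 := by
      have e4 : p - 1 = 6 * (k + 1) := by omega
      have e5 : Nat.gcd k (k + 1) = 1 := by simp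
      rw [e4, Nat.gcd_mul_left, e5]
    rw [e3, e2] at h3
    rw [e1, e2, mul_comm]
    exact h3
  · have h4 := Pol_mul (Pol_pow hf (k - 2 * (b : ℕ))) (Pol_pow hg (b : ℕ))
    have e3 : (k - 2 * (b : ℕ)) * 6 + (b : ℕ) * 12 = 6 * k := by
      have := b.2
      omega
    rwa [e3] at h4
  · exact WInv.mul' (hfW.pow _) (hgW.pow _)

end forms

/-! ### the engine -/

section engine

theorem e7T : IsType chevE7 7 CoxeterMatrix.E₇ := by simp [IsType, typeList]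

theorem not_dvd_W {p : ℕ} (hp : p.Prime) (h11 : 11 ≤ p) : ¬ p ∣ Nat.card CoxeterMatrix.E₇.Group := by
  have h1 : Nat.card CoxeterMatrix.E₇.Group = 2903040 :=
    WeylData.certE7.card_group.trans WeylData.size_E7
  rw [h1, show 2903040 = 2 ^ 10 * (3 ^ 4 * (5 * 7)) by norm_num, hp.dvd_mul, hp.dvd_mul, hp.dvd_mul]
  have key : ∀ r k : ℕ, r.Prime → r < 11 → ¬ p ∣ r ^ k := by
    intro r k hr hr' h
    have := (Nat.prime_dvd_prime_iff_eq hp hr).1 (hp.dvd_of_dvd_pow h)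
    omega
  rintro (h | h | h | h)
  · exact key 2 10 (by norm_num) (by norm_num) h
  · exact key 3 4 (by norm_num) (by norm_num) h
  · exact key 5 1 (by norm_num) (by norm_num) (by rwa [pow_one])
  · exact key 7 1 (by norm_num) (by norm_num) (by rwa [pow_one])

theorem sum_psum {p d m : ℕ} {s : ZMod p} {e : ℤ} (hs : s ^ 2 = -(e : ZMod p) * s - 1) {θ : (Fin 7 → ℤ) →+ (Fin 7 → ℤ)}
    {Th : Mat 7} (h : Lin θ Th) {T : List (Mat 7)} (hT : PowOK Th T d) (a : Fin 7) :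
    ∑ j : Fin chevE7.nroots, pj p d s θ (bl Am (vec chevE7 7 j)) (sr a) ^ m = evp s (psum e d T a m) := by
  have hn : chevE7.nroots = 126 := by decide +kernel
  have h1 : ∀ y : Fin 7 → ℤ, pj p d s θ (bl Am y) (sr a) = evp s (prj e d Am y fun i => T.getD i (fun _ _ => 0) a) :=
    fun y => pj_eq hs fun i hi => iter_sr h hT hi.le a
  simp only [h1]
  unfold psum
  rw [evp_sum, ← hn, ← Fin.sum_univ_eq_sum_range (fun r => evp s (powp e (prj e d Am (vec chevE7 7 r) fun i =>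
    T.getD i (fun _ _ => 0) a) m))]
  exact Finset.sum_congr rfl fun j _ => (evp_pow hs _ _).symm

variable {S : Type u} [Group S] [Finite S] {p : ℕ} [hpp : Fact p.Prime] {M : Ideal AlgInt}

theorem natCast_ne {n : ℕ} (h11 : 11 ≤ p) {a b c : ℕ} (hn : n = 2 ^ a * (3 ^ b * 5 ^ c)) : ((n : ℕ) : ZMod p) ≠ 0 := by
  intro h
  rw [ZMod.natCast_eq_zero_iff, hn, hpp.out.dvd_mul, hpp.out.dvd_mul] at h
  have key : ∀ r k : ℕ, r.Prime → r < 11 → ¬ p ∣ r ^ k := by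
    intro r k hr hr' h
    have := (Nat.prime_dvd_prime_iff_eq hpp.out hr).1 (hpp.out.dvd_of_dvd_pow h)
    omega
  rcases h with h | h | h
  · exact key 2 a (by norm_num) (by norm_num) h
  · exact key 3 b (by norm_num) (by norm_num) h
  · exact key 5 c (by norm_num) (by norm_num) h

/-- the general step -/
theorem nr_gen (hM : IsPModular p M) (h11 : 11 ≤ p) (h6 : 6 ∣ p - 1) {F : Type v} [Field F] [Fintype F] (hpF : (p : F) ≠ 0)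
    (i : S ≃* ↥(chevE7.group F)) {e : ℤ} {d : ℕ} (hd0 : 0 < d) {C : List (Fin 7 × Mat 7)} (hC : ChainOK Am C) {T : List (Mat 7)}
    (hT : PowOK (hd C) T d) {s : ZMod p} (hs : s ^ 2 = -(e : ZMod p) * s - 1) (hq : (Fintype.card F : ZMod p) ^ d = 1)
    (hqs : (Fintype.card F : ZMod p) * s = 1)
    (hreg : ∀ a, IsRoot CoxeterMatrix.E₇.toCoxeterSystem e7T.isCartan a → ∀ θ : (Fin 7 → ℤ) →+ (Fin 7 → ℤ),
      (∀ x y, bl Am (θ y) (θ x) = bl Am y x) → Lin θ (hd C) → pj p d s θ (bl Am a) a ≠ 0)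
    {a b : Fin 7} {u v u' v' : ℤ} (h1 : psum e d T a 6 = (u, 0)) (h2 : psum e d T a 12 = (v, 0))
    (h3 : psum e d T b 6 = (u', 0)) (h4 : psum e d T b 12 = (v', 0)) (h5 : (u : ZMod p) ≠ 0)
    (h7 : (v : ZMod p) * (u' : ZMod p) ^ 2 ≠ v' * (u : ZMod p) ^ 2) :
    (p - 1) / 6 * ((p - 7) / 6 / 2 + 1) ≤ H508.XR.nr p M S := by
  set w := CoxeterMatrix.E₇.toCoxeterSystem.wordProd (C.map Prod.fst) with hw
  let θ : (Fin 7 → ℤ) →+ (Fin 7 → ℤ) := (rep CoxeterMatrix.E₇.toCoxeterSystem e7T.isCartan w).toAddMonoidHom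
  have hθ : ∀ x, θ x = rep CoxeterMatrix.E₇.toCoxeterSystem e7T.isCartan w x := fun x => rfl
  have hlin : Lin θ (hd C) := fun j => by rw [hθ]; exact chain_rep e7T _ hA hC j
  have hid : ∀ x, (fun x => rep CoxeterMatrix.E₇.toCoxeterSystem e7T.isCartan w x)^[d] x = x := iter_id hlin hT
  have hsd : s ^ d = 1 := by
    have h8 : ((Fintype.card F : ZMod p) * s) ^ d = 1 := by rw [hqs, one_pow]
    rwa [mul_pow, hq, one_mul] at h8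
  obtain ⟨P, L, hF⟩ := forms_untw (D := chevE7) (l := 7) (M := CoxeterMatrix.E₇) e7T (by norm_num) i hpF
    (not_dvd_W hpp.out h11) invC_E7 two_ne_zero (Or.inr Nat.prime_two)
    (fun h => by have := Nat.le_of_dvd (by norm_num) h; omega) w hd0 hid hq hqs (fun a ha => by
      let θ' : (Fin 7 → ℤ) ≃+ (Fin 7 → ℤ) :=
        { toFun := θ
          invFun := (⇑θ)^[d - 1]
          left_inv := fun x => by
            refine (Function.iterate_succ_apply (⇑θ) (d - 1) x).symm.trans ?_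
            have : (d - 1).succ = d := by omega
            rw [this]
            exact hid x
          right_inv := fun x => by
            refine (Function.iterate_succ_apply' (⇑θ) (d - 1) x).symm.trans ?_
            have : (d - 1).succ = d := by omega
            rw [this]
            exact hid x
          map_add' := map_add θ }
      obtain ⟨c, hc1, hc2⟩ := exists_eig (p := p) (d := d) (s := s) (q := (Fintype.card F : ZMod p)) hqs hsd (θ := θ') hid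
        (bl Am a)
      refine ⟨c, hc1, ?_⟩
      rw [hc2]
      exact hreg a ha θ (fun x y => bl_rep e7T formOK w x y) hlin)
  obtain ⟨f, hf1, hf2, hf3⟩ := hF.form (fun j : Fin chevE7.nroots => bl Am (vec chevE7 7 j))
    (fun v' _ => root_fam e7T formOK v') 6
  obtain ⟨g, hg1, hg2, hg3⟩ := hF.form (fun j : Fin chevE7.nroots => bl Am (vec chevE7 7 j))
    (fun v' _ => root_fam e7T formOK v') 12
  have key : ∀ (c : Fin 7) (m : ℕ) (t : ℤ), psum e d T c m = (t, 0) →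
      ∑ j : Fin chevE7.nroots, pj p d s (fun x => rep CoxeterMatrix.E₇.toCoxeterSystem e7T.isCartan w x)
        (bl Am (vec chevE7 7 j)) (sr c) ^ m = (t : ZMod p) := by
    intro c m t ht
    have h8 := sum_psum (p := p) (m := m) hs hlin hT c
    rw [ht] at h8
    refine h8.trans ?_
    simp [evp]
  refine nr_of_forms hM hF.ab hF.dvd h11 h6 hf1 hg1 hf2 hg2 (l := L (sr a)) (m := L (sr b)) ?_ ?_
  · rw [hf3, key a 6 u h1]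
    exact h5
  · rw [hf3, hf3, hg3, hg3, key a 6 u h1, key b 6 u' h3, key a 12 v h2, key b 12 v' h4]
    exact h7

end engine

/-! ### the theorems -/

/-- the scalar products of the roots and their images -/
theorem t3_ok : ∀ r : Fin 126, bl Am (vec chevE7 7 r) (fun m => ∑ j, vec chevE7 7 r j * hd cw3 j m) = -1 ∨
    bl Am (vec chevE7 7 r) (fun m => ∑ j, vec chevE7 7 r j * hd cw3 j m) = 0 := by decide +kernel

theorem t6_ok : ∀ r : Fin 126, bl Am (vec chevE7 7 r) (fun m => ∑ j, vec chevE7 7 r j * hd cw6 j m) = 0 ∨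
    bl Am (vec chevE7 7 r) (fun m => ∑ j, vec chevE7 7 r j * hd cw6 j m) = 1 := by decide +kernel

theorem neg6_ok : ∀ j m, T6.getD 3 (fun _ _ => 0) j m = if j = m then -1 else 0 := by decide +kernel

theorem diag_ok : ∀ i, Am i i = 2 := by decide +kernel

theorem img {θ : (Fin 7 → ℤ) →+ (Fin 7 → ℤ)} {Th : Mat 7} (h : Lin θ Th) (x : Fin 7 → ℤ) :
    θ x = fun m => ∑ j, x j * Th j m := funext fun m => h.apply x m

theorem exists_root {a : Fin 7 → ℤ} (ha : IsRoot CoxeterMatrix.E₇.toCoxeterSystem e7T.isCartan a) :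
    ∃ r : Fin 126, a = vec chevE7 7 r := by
  obtain ⟨r, hr, rfl⟩ := (isRoot_iff e7T CoxeterMatrix.E₇.toCoxeterSystem a).1 ha
  have hn : chevE7.nroots = 126 := by decide +kernel
  exact ⟨⟨r, by omega⟩, rfl⟩

section final

variable {p : ℕ} [hpp : Fact p.Prime]

theorem reg3 (h11 : 11 ≤ p) {s : ZMod p} (hs : s ^ 2 = -((1 : ℤ) : ZMod p) * s - 1) {a : Fin 7 → ℤ}
    (ha : IsRoot CoxeterMatrix.E₇.toCoxeterSystem e7T.isCartan a) {θ : (Fin 7 → ℤ) →+ (Fin 7 → ℤ)}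
    (hθ : ∀ x y, bl Am (θ y) (θ x) = bl Am y x) (hl : Lin θ (hd cw3)) : pj p 3 s θ (bl Am a) a ≠ 0 := by
  have h0 : bl Am a a = 2 := bl_root e7T formOK diag_ok ha
  have h1 : bl Am a (θ a) = -1 ∨ bl Am a (θ a) = 0 := by
    obtain ⟨r, rfl⟩ := exists_root ha
    rw [img hl]
    exact t3_ok r
  have h3 : θ (θ (θ a)) = a := iter_id hl T3_ok a
  have h2 : bl Am a (θ (θ a)) = bl Am a (θ a) := by
    rw [← hθ (θ (θ a)) a, h3, bl_comm formOK.1]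
  have h4 : pj p 3 s θ (bl Am a) a = ((2 - bl Am a (θ a) : ℤ) : ZMod p) := by
    have h5 : pj p 3 s θ (bl Am a) a = s ^ 0 * (bl Am a a : ZMod p) + s ^ 1 * (bl Am a (θ a) : ZMod p) +
        s ^ 2 * (bl Am a (θ (θ a)) : ZMod p) := by
      unfold pj
      rw [Finset.sum_range_succ, Finset.sum_range_succ, Finset.sum_range_succ, Finset.sum_range_zero, zero_add]
      rfl
    rw [h5, h2, h0]
    push_cast at hs ⊢
    linear_combination (bl Am a (θ a) : ZMod p) * hs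
  rw [h4]
  rcases h1 with h1 | h1 <;> rw [h1]
  · rw [show (2 - (-1) : ℤ) = ((3 : ℕ) : ℤ) by norm_num, Int.cast_natCast]
    exact natCast_ne (p := p) (n := 3) h11 (a := 0) (b := 1) (c := 0) (by norm_num)
  · rw [show (2 - 0 : ℤ) = ((2 : ℕ) : ℤ) by norm_num, Int.cast_natCast]
    exact natCast_ne (p := p) (n := 2) h11 (a := 1) (b := 0) (c := 0) (by norm_num)

theorem reg6 (h11 : 11 ≤ p) {s : ZMod p} (hs : s ^ 2 = -((-1 : ℤ) : ZMod p) * s - 1) {a : Fin 7 → ℤ}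
    (ha : IsRoot CoxeterMatrix.E₇.toCoxeterSystem e7T.isCartan a) {θ : (Fin 7 → ℤ) →+ (Fin 7 → ℤ)}
    (hθ : ∀ x y, bl Am (θ y) (θ x) = bl Am y x) (hl : Lin θ (hd cw6)) : pj p 6 s θ (bl Am a) a ≠ 0 := by
  have h0 : bl Am a a = 2 := bl_root e7T formOK diag_ok ha
  have h1 : bl Am a (θ a) = 0 ∨ bl Am a (θ a) = 1 := by
    obtain ⟨r, rfl⟩ := exists_root ha
    rw [img hl]
    exact t6_ok r
  have h3 : ∀ x, θ (θ (θ x)) = -x := by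
    refine ext_sr (iterHom θ 3) (-AddMonoidHom.id _) fun j => ?_
    show (⇑θ)^[3] (sr j) = -sr j
    rw [iter_sr hl T6_ok (by norm_num) j]
    funext m
    rw [neg6_ok, Pi.neg_apply]
    by_cases hm : j = m
    · subst hm; rw [if_pos rfl, sr_self]
    · rw [if_neg hm, sr_ne (Ne.symm hm), neg_zero]
  have hneg : ∀ x, bl Am a (-x) = -bl Am a x := fun x => map_neg _ x
  have h2 : bl Am a (θ (θ a)) = -bl Am a (θ a) := by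
    rw [← hθ (θ (θ a)) a, h3, map_neg, bl_comm formOK.1]
  have h4 : pj p 6 s θ (bl Am a) a = ((4 + 2 * bl Am a (θ a) : ℤ) : ZMod p) := by
    have h5 : pj p 6 s θ (bl Am a) a = s ^ 0 * (bl Am a a : ZMod p) + s ^ 1 * (bl Am a (θ a) : ZMod p) +
        s ^ 2 * (bl Am a (θ (θ a)) : ZMod p) + s ^ 3 * (bl Am a (θ (θ (θ a))) : ZMod p) +
        s ^ 4 * (bl Am a (θ (θ (θ (θ a)))) : ZMod p) + s ^ 5 * (bl Am a (θ (θ (θ (θ (θ a))))) : ZMod p) := by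
      unfold pj
      rw [Finset.sum_range_succ, Finset.sum_range_succ, Finset.sum_range_succ, Finset.sum_range_succ,
        Finset.sum_range_succ, Finset.sum_range_succ, Finset.sum_range_zero, zero_add]
      rfl
    rw [h5, h3 a, map_neg θ a, map_neg θ (θ a), hneg, hneg, hneg, h2, h0]
    set t := bl Am a (θ a)
    push_cast at hs ⊢
    have e2 : s ^ 2 = s - 1 := by linear_combination hs
    have e3 : s ^ 3 = -1 := by linear_combination (s + 1) * e2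
    have e4 : s ^ 4 = -s := by linear_combination s * e3
    have e5 : s ^ 5 = 1 - s := by linear_combination s * e4 - e2
    rw [e2, e3, e4, e5]
    ring
  rw [h4]
  rcases h1 with h1 | h1 <;> rw [h1]
  · rw [show (4 + 2 * 0 : ℤ) = ((4 : ℕ) : ℤ) by norm_num, Int.cast_natCast]
    exact natCast_ne (p := p) (n := 4) h11 (a := 2) (b := 0) (c := 0) (by norm_num)
  · rw [show (4 + 2 * 1 : ℤ) = ((6 : ℕ) : ℤ) by norm_num, Int.cast_natCast]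
    exact natCast_ne (p := p) (n := 6) h11 (a := 1) (b := 1) (c := 0) (by norm_num)

variable {S : Type u} [Group S] [Finite S] {M : Ideal AlgInt} {F : Type v} [Field F] [Fintype F]

theorem six_dvd (h11 : 11 ≤ p) {q : ZMod p} (h3 : 3 ∣ orderOf q) (h0 : q ≠ 0) : 6 ∣ p - 1 := by
  have h1 : orderOf q ∣ p - 1 := ZMod.orderOf_dvd_card_sub_one h0
  have h2 : 3 ∣ p - 1 := h3.trans h1
  have h4 : Odd p := hpp.out.odd_of_ne_two (by omega)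
  obtain ⟨k, hk⟩ := h4
  omega

theorem ne_of_int {x y : ℤ} {n : ℕ} {a b c : ℕ} (h11 : 11 ≤ p) (hn : n = 2 ^ a * (3 ^ b * 5 ^ c)) (h : x - y = n) :
    (x : ZMod p) ≠ y := by
  intro h1
  apply natCast_ne h11 hn
  have h2 : ((x - y : ℤ) : ZMod p) = ((n : ℤ) : ZMod p) := by rw [h]
  rw [Int.cast_sub, h1, sub_self, Int.cast_natCast] at h2
  exact h2.symm

/-- **`d = 3`.** -/
theorem nr_E7_three (hM : IsPModular p M) (h11 : 11 ≤ p) {r : ℕ} [hr : Fact r.Prime] [CharP F r] (hrp : r ≠ p)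
    (i : Nonempty (S ≃* ↥(chevE7.group F))) (ho : orderOf ((Fintype.card F : ℕ) : ZMod p) = 3) :
    (p - 1) / 6 * ((p - 7) / 6 / 2 + 1) ≤ H508.XR.nr p M S := by
  obtain ⟨i⟩ := i
  set q : ZMod p := ((Fintype.card F : ℕ) : ZMod p) with hq
  have hq3 : q ^ 3 = 1 := by rw [← ho]; exact pow_orderOf_eq_one q
  have hq1 : q ≠ 1 := by
    intro h
    rw [h, orderOf_one] at ho
    omega
  have hq0 : q ≠ 0 := by
    intro h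
    rw [h] at hq3
    simp at hq3
  have hqq : q ^ 2 + q + 1 = 0 := by
    have h1 : (q - 1) * (q ^ 2 + q + 1) = 0 := by linear_combination hq3
    exact (mul_eq_zero.1 h1).resolve_left (sub_ne_zero.2 hq1)
  have hpF : (p : F) ≠ 0 := by
    intro h
    have h1 := (CharP.cast_eq_zero_iff F r p).1 h
    exact hrp ((Nat.prime_dvd_prime_iff_eq hr.out hpp.out).1 h1)
  have hs : (q ^ 2) ^ 2 = -((1 : ℤ) : ZMod p) * q ^ 2 - 1 := by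
    push_cast
    linear_combination q * hq3 + hqq
  refine nr_gen hM h11 (six_dvd h11 (by rw [ho]) hq0) hpF i (e := 1) (d := 3) (by norm_num) cw3_ok T3_ok (s := q ^ 2) hs hq3
    (by rw [← hq, ← pow_succ']; exact hq3) (fun a ha θ h1 h2 => reg3 h11 hs ha h1 h2) p3_0_6 p3_0_12 p3_6_6 p3_6_12 ?_ ?_
  · rw [← Int.cast_zero]
    exact ne_of_int (n := 1944) h11 (a := 3) (b := 5) (c := 0) (by norm_num) (by norm_num)
  · have h1 := ne_of_int (p := p) (x := 3254256 * (-864) ^ 2) (y := 59616 * 1944 ^ 2) (n := 2203992115200) h11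
      (a := 11) (b := 16) (c := 2) (by norm_num) (by norm_num)
    rw [Int.cast_mul, Int.cast_mul, Int.cast_pow, Int.cast_pow] at h1
    exact h1

/-- **`d = 6`.** -/
theorem nr_E7_six (hM : IsPModular p M) (h11 : 11 ≤ p) {r : ℕ} [hr : Fact r.Prime] [CharP F r] (hrp : r ≠ p)
    (i : Nonempty (S ≃* ↥(chevE7.group F))) (ho : orderOf ((Fintype.card F : ℕ) : ZMod p) = 6) :
    (p - 1) / 6 * ((p - 7) / 6 / 2 + 1) ≤ H508.XR.nr p M S := by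
  obtain ⟨i⟩ := i
  set q : ZMod p := ((Fintype.card F : ℕ) : ZMod p) with hq
  have hq6 : q ^ 6 = 1 := by rw [← ho]; exact pow_orderOf_eq_one q
  have hne : ∀ n : ℕ, 0 < n → n < 6 → q ^ n ≠ 1 := by
    intro n h1 h2 h3
    have h4 := Nat.le_of_dvd h1 (orderOf_dvd_of_pow_eq_one h3)
    omega
  have hq0 : q ≠ 0 := by
    intro h
    rw [h] at hq6
    simp at hq6
  have hq3 : q ^ 3 = -1 := by
    have h1 : (q ^ 3 - 1) * (q ^ 3 + 1) = 0 := by linear_combination hq6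
    exact eq_neg_of_add_eq_zero_left ((mul_eq_zero.1 h1).resolve_left (sub_ne_zero.2 (hne 3 (by norm_num) (by norm_num))))
  have hqq : q ^ 2 - q + 1 = 0 := by
    have h1 : (q + 1) * (q ^ 2 - q + 1) = 0 := by linear_combination hq3
    refine (mul_eq_zero.1 h1).resolve_left fun h2 => ?_
    apply hne 2 (by norm_num) (by norm_num)
    have h3 : q = -1 := eq_neg_of_add_eq_zero_left h2
    rw [h3]
    norm_num
  have hpF : (p : F) ≠ 0 := by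
    intro h
    have h1 := (CharP.cast_eq_zero_iff F r p).1 h
    exact hrp ((Nat.prime_dvd_prime_iff_eq hr.out hpp.out).1 h1)
  have hs : (q ^ 5) ^ 2 = -((-1 : ℤ) : ZMod p) * q ^ 5 - 1 := by
    push_cast
    linear_combination hqq + (q * (q ^ 6 - q ^ 3 + 1) - q ^ 2) * hq3
  refine nr_gen hM h11 (six_dvd h11 (by rw [ho]; norm_num) hq0) hpF i (e := -1) (d := 6) (by norm_num) cw6_ok T6_ok
    (s := q ^ 5) hs hq6 (by rw [← hq, ← pow_succ']; exact hq6) (fun a ha θ h1 h2 => reg6 h11 hs ha h1 h2)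
    p6_0_6 p6_0_12 p6_1_6 p6_1_12 ?_ ?_
  · rw [← Int.cast_zero]
    exact ne_of_int (n := 124416) h11 (a := 9) (b := 5) (c := 0) (by norm_num) (by norm_num)
  · have h1 := ne_of_int (p := p) (x := 13329432576 * (-55296) ^ 2) (y := 244187136 * 124416 ^ 2)
      (n := 2 ^ 35 * (3 ^ 16 * 5 ^ 2)) h11 (a := 35) (b := 16) (c := 2) rfl (by norm_num)
    rw [Int.cast_mul, Int.cast_mul, Int.cast_pow, Int.cast_pow] at h1
    exact h1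

end final

end Cfsg.Agent.H189.NE
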